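import Cfsg.Agent.Lib.Heis43.Frame

set_option autoImplicit false

/-!
Coordinates on the extraspecial subgroup: `rho a b z (w, t) = a^u b^v z^(uv+t)` for a pair `a, b` inverted by
the involution, and the induced linear action of the centralizer of the involution.
-/

namespace CfsgLib.Heis43

variable {X : Type*} [Group X]

/-- Powers with exponent modulo three. -/
def pw (x : X) (i : K3) : X := x ^ i.val

theorem pw_natCast {x : X} (h : x ^ 3 = 1) (n : ℕ) : pw x (n : K3) = x ^ n := by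
  rw [pw, ZMod.val_natCast]
  conv_rhs => rw [← Nat.div_add_mod n 3, pow_add, pow_mul, h, one_pow, one_mul]

theorem pw_add {x : X} (h : x ^ 3 = 1) (i k : K3) : pw x (i + k) = pw x i * pw x k := by
  simp only [pw]
  rw [← pow_add]
  conv_lhs => rw [← ZMod.natCast_zmod_val i, ← ZMod.natCast_zmod_val k, ← Nat.cast_add]
  exact pw_natCast h _

theorem pw_zero (x : X) : pw x 0 = 1 := by simp [pw]

theorem pw_one (x : X) : pw x 1 = x := by rw [pw, show (1 : K3).val = 1 from rfl, pow_one]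

theorem pw_inv {x : X} (h : x ^ 3 = 1) (i : K3) : pw x⁻¹ i = pw x (-i) := by
  have e : pw x (-i) * pw x i = 1 := by rw [← pw_add h, neg_add_cancel, pw_zero]
  rw [pw, inv_pow]
  exact (eq_inv_of_mul_eq_one_left e).symm

theorem comm_pow {a b z : X} (hab : a * b = b * a * z) (hzb : z * b = b * z) :
    ∀ k : ℕ, a * b ^ k = b ^ k * a * z ^ k := by
  intro k
  induction k with
  | zero => simp
  | succ k ih =>
    have h : z ^ k * b = b * z ^ k := (Commute.pow_left hzb k).eq
    rw [pow_succ, ← mul_assoc, ih, mul_assoc (b ^ k * a), h, ← mul_assoc, mul_assoc (b ^ k) a b, hab,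
      pow_succ' z k]
    simp only [mul_assoc]

theorem pow_comm_pow {a b z : X} (hab : a * b = b * a * z) (hza : z * a = a * z) (hzb : z * b = b * z) (i k : ℕ) :
    a ^ i * b ^ k = b ^ k * a ^ i * z ^ (i * k) := by
  induction i with
  | zero => simp
  | succ i ih =>
    have h : z ^ (i * k) * a = a * z ^ (i * k) := (Commute.pow_left hza _).eq
    have h1 := comm_pow hab hzb k
    have h2 : z ^ k * a = a * z ^ k := (Commute.pow_left hza _).eq
    rw [pow_succ, mul_assoc, h1, ← mul_assoc, ← mul_assoc, ih, mul_assoc (b ^ k * a ^ i), h, ← mul_assoc,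
      mul_assoc _ (z ^ (i * k)), ← pow_add, mul_assoc (b ^ k) (a ^ i) a, Nat.succ_mul]

variable [Finite X]

/-- A frame: an involution, and a pair of noncommuting elements inverted by it. -/
structure Frame (D : Data X) where
  j : X
  hj : j * j = 1
  hπ : D.π j = negOne
  a : X
  b : X
  ha : a ∈ D.R
  hb : b ∈ D.R
  hja : j * a * j⁻¹ = a⁻¹
  hjb : j * b * j⁻¹ = b⁻¹
  hne : a * b ≠ b * a

variable {D : Data X}

theorem exists_frame (D : Data X) : Nonempty (Frame D) := by
  obtain ⟨j, hj, hπ⟩ := D.exists_inv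
  -- the inverted representative of a coset of the centre
  have hrep : ∀ r ∈ D.R, ∃ d ∈ D.R, j * d * j⁻¹ = d⁻¹ ∧ d⁻¹ * r ∈ D.Zc := by
    intro r hr
    have hz := D.inv_mod hj hπ hr
    set z := r * (j * r * j⁻¹) with hzdef
    refine ⟨r * z, mul_mem hr (D.Zc_le hz), ?_, ?_⟩
    · have hjr : j * r * j⁻¹ = r⁻¹ * z := by rw [hzdef]; group
      have h3 : z⁻¹ = z * z := inv_eq_of_mul_eq_one_right (by rw [← pow_two, ← pow_succ']; exact D.exp z (D.Zc_le hz))
      rw [show j * (r * z) * j⁻¹ = j * r * j⁻¹ * (j * z * j⁻¹) by group, D.Zc_central hz j, mul_inv_cancel_right,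
        hjr, mul_inv_rev, h3, mul_assoc r⁻¹, D.Zc_central (mul_mem hz hz) r⁻¹]
    · rw [mul_inv_rev, inv_mul_cancel_right]
      exact inv_mem hz
  have hnot : ∃ r ∈ D.R, r ∉ D.Zc := by
    by_contra h
    push Not at h
    have := Subgroup.card_dvd_of_le (fun x hx => h x hx : D.R ≤ D.Zc)
    rw [D.card, D.card_Zc] at this
    norm_num at this
  obtain ⟨r, hr, hrZ⟩ := hnot
  obtain ⟨a, ha, hja, har⟩ := hrep r hr
  have haZ : a ∉ D.Zc := fun h => hrZ (by simpa using mul_mem h har)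
  obtain ⟨s, hs, hsa⟩ : ∃ s ∈ D.R, s * a ≠ a * s := by
    by_contra h
    push Not at h
    exact haZ ((D.mem_Zc a).mpr ⟨ha, h⟩)
  obtain ⟨b, hb, hjb, hbs⟩ := hrep s hs
  refine ⟨⟨j, hj, hπ, a, b, ha, hb, hja, hjb, fun h => hsa ?_⟩⟩
  rw [show s = b * (b⁻¹ * s) by group, mul_assoc, ← D.Zc_central hbs a, ← mul_assoc, ← h]
  group

namespace Frame

variable (F : Frame D)

/-- The commutator of the pair. -/
def z : X := F.a * F.b * F.a⁻¹ * F.b⁻¹

theorem z_def : F.z = F.a * F.b * F.a⁻¹ * F.b⁻¹ := rfl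

theorem z_mem : F.z ∈ D.Zc := D.comm_Zc _ F.ha _ F.hb

theorem z_ne : F.z ≠ 1 := fun h => F.hne (by
  rw [z_def, mul_inv_eq_one, mul_inv_eq_iff_eq_mul] at h
  exact h)

theorem z_comm (x : X) : x * F.z = F.z * x := D.Zc_central F.z_mem x

theorem hab : F.a * F.b = F.b * F.a * F.z := by
  rw [mul_assoc F.b F.a F.z, F.z_comm F.a, ← mul_assoc, F.z_comm F.b, z_def]
  group

theorem a3 : F.a ^ 3 = 1 := D.exp _ F.ha
theorem b3 : F.b ^ 3 = 1 := D.exp _ F.hb
theorem z3 : F.z ^ 3 = 1 := D.exp _ (D.Zc_le F.z_mem)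

theorem pw_z_comm (x : X) (i : K3) : x * pw F.z i = pw F.z i * x :=
  D.Zc_central (pow_mem F.z_mem _) x

theorem ab_comm (i k : K3) : pw F.a i * pw F.b k = pw F.b k * pw F.a i * pw F.z (i * k) := by
  have h := pow_comm_pow F.hab (F.z_comm F.a).symm (F.z_comm F.b).symm i.val k.val
  rw [pw, pw, h]
  congr 1
  rw [← pw_natCast F.z3]
  push_cast
  rw [ZMod.natCast_zmod_val, ZMod.natCast_zmod_val]

theorem ba_comm (i k : K3) : pw F.b k * pw F.a i = pw F.a i * pw F.b k * pw F.z (-(i * k)) := by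
  rw [F.ab_comm, mul_assoc, ← pw_add F.z3, add_neg_cancel, pw_zero, mul_one]

/-- The coordinates on `R`. -/
def rho (p : V × K3) : X := pw F.a p.1.1 * pw F.b p.1.2 * pw F.z (p.1.1 * p.1.2 + p.2)

theorem rho_mem (p : V × K3) : F.rho p ∈ D.R :=
  mul_mem (mul_mem (pow_mem F.ha _) (pow_mem F.hb _)) (pow_mem (D.Zc_le F.z_mem) _)

theorem rho_mul (w w' : V) (t t' : K3) : F.rho (w, t) * F.rho (w', t') = F.rho (w + w', t + t' + om w w') := by
  have h3 : (3 : K3) = 0 := by decide
  simp only [rho, Prod.fst_add, Prod.snd_add]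
  calc pw F.a w.1 * pw F.b w.2 * pw F.z (w.1 * w.2 + t) * (pw F.a w'.1 * pw F.b w'.2 * pw F.z (w'.1 * w'.2 + t'))
      = pw F.a w.1 * (pw F.b w.2 * pw F.a w'.1) * pw F.b w'.2 *
          (pw F.z (w.1 * w.2 + t) * pw F.z (w'.1 * w'.2 + t')) := by
        rw [← mul_assoc, mul_assoc _ (pw F.z (w.1 * w.2 + t)) (pw F.a w'.1 * pw F.b w'.2), ← F.pw_z_comm]
        simp only [mul_assoc]
    _ = pw F.a w.1 * pw F.a w'.1 * (pw F.b w.2 * pw F.b w'.2) *
          (pw F.z (-(w'.1 * w.2)) * (pw F.z (w.1 * w.2 + t) * pw F.z (w'.1 * w'.2 + t'))) := by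
        rw [F.ba_comm, mul_assoc (pw F.a w.1), mul_assoc (pw F.a w'.1 * pw F.b w.2), ← F.pw_z_comm]
        simp only [mul_assoc]
    _ = _ := by
        rw [← pw_add F.a3, ← pw_add F.b3, ← pw_add F.z3, ← pw_add F.z3]
        congr 2
        simp only [om]
        linear_combination (-(w'.1 * w.2)) * h3

theorem rho_zero : F.rho ((0, 0), 0) = 1 := by simp [rho, pw_zero]

theorem rho_z (t : K3) : F.rho ((0, 0), t) = pw F.z t := by simp [rho, pw_zero]

theorem rho_a : F.rho ((1, 0), 0) = F.a := by simp [rho, pw_zero, pw_one]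

theorem rho_b : F.rho ((0, 1), 0) = F.b := by simp [rho, pw_zero, pw_one]

theorem rho_eq_one {p : V × K3} (h : F.rho p = 1) : p = ((0, 0), 0) := by
  obtain ⟨⟨u, v⟩, t⟩ := p
  have hz : ∀ k : K3, pw F.z k = 1 → k = 0 := by
    intro k hk
    have ho : orderOf F.z = 3 := by
      haveI : Fact (Nat.Prime 3) := ⟨Nat.prime_three⟩
      exact orderOf_eq_prime F.z3 F.z_ne
    have := orderOf_dvd_of_pow_eq_one hk
    rw [ho] at this
    exact (ZMod.val_eq_zero k).mp (Nat.eq_zero_of_dvd_of_lt this (ZMod.val_lt k))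
  have h3 : (3 : K3) = 0 := by decide
  have hcomm : ∀ w' : V, F.rho ((u, v), t) * F.rho (w', 0) = F.rho (w', 0) * F.rho ((u, v), t) := fun w' => by
    rw [h, one_mul, mul_one]
  have hom : ∀ w' : V, pw F.z (om (u, v) w' - om w' (u, v)) = 1 := fun w' => by
    have e := hcomm w'
    rw [rho_mul, rho_mul, add_comm w' (u, v)] at e
    simp only [rho] at e
    have e' := mul_left_cancel e
    rw [show om (u, v) w' - om w' (u, v) = (((u, v) + w').1 * ((u, v) + w').2 + (t + 0 + om (u, v) w')) +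
      -(((u, v) + w').1 * ((u, v) + w').2 + (0 + t + om w' (u, v))) by ring, pw_add F.z3, e', ← pw_add F.z3,
      add_neg_cancel, pw_zero]
  have hv := hz _ (hom (1, 0))
  have hu := hz _ (hom (0, 1))
  simp only [om, one_mul, mul_zero, zero_mul, mul_one, sub_zero, zero_sub] at hu hv
  have hv' : v = 0 := by revert hv; clear h hcomm hom; revert v; decide
  have hu' : u = 0 := by revert hu; clear h hcomm hom; revert u; decide
  subst hu' hv'
  rw [rho_z] at h
  rw [hz t h]

theorem rho_injective : Function.Injective F.rho := by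
  intro p q h
  obtain ⟨w, t⟩ := p
  obtain ⟨w', t'⟩ := q
  have h1 : F.rho (-w', -t') * F.rho (w', t') = 1 := by
    rw [rho_mul, show om (-w') w' = 0 by simp [om], neg_add_cancel, neg_add_cancel, add_zero]
    exact F.rho_zero
  rw [← h, rho_mul] at h1
  have e := F.rho_eq_one h1
  simp only [Prod.mk.injEq] at e
  have hw : w = w' := by
    have : -w' + w = 0 := e.1
    exact (eq_of_sub_eq_zero (by rwa [sub_eq_add_neg, add_comm]))
  subst hw
  have : -t' + t + om (-w) w = 0 := e.2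
  rw [show om (-w) w = 0 by simp [om], add_zero] at this
  rw [show t = t' by linear_combination this]

theorem rho_surj {r : X} (hr : r ∈ D.R) : ∃ p, F.rho p = r := by
  let f : V × K3 → D.R := fun p => ⟨F.rho p, F.rho_mem p⟩
  have hf : Function.Injective f := fun p q h => F.rho_injective (congrArg Subtype.val h)
  have hb : Function.Bijective f := (Nat.bijective_iff_injective_and_card f).mpr ⟨hf, by
    rw [D.card, Nat.card_eq_fintype_card]; rfl⟩
  obtain ⟨p, hp⟩ := hb.2 ⟨r, hr⟩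
  exact ⟨p, congrArg Subtype.val hp⟩

theorem conj_pw (g x : X) (i : K3) : g * pw x i * g⁻¹ = pw (g * x * g⁻¹) i := conj_pow.symm

theorem j_rho (w : V) (t : K3) : F.j * F.rho (w, t) * F.j⁻¹ = F.rho (-w, t) := by
  simp only [rho, Prod.fst_neg, Prod.snd_neg, neg_mul_neg]
  rw [show F.j * (pw F.a w.1 * pw F.b w.2 * pw F.z (w.1 * w.2 + t)) * F.j⁻¹ =
    (F.j * pw F.a w.1 * F.j⁻¹) * (F.j * pw F.b w.2 * F.j⁻¹) * (F.j * pw F.z (w.1 * w.2 + t) * F.j⁻¹) by group,
    conj_pw, conj_pw, F.hja, F.hjb, pw_inv F.a3, pw_inv F.b3, F.pw_z_comm F.j, mul_inv_cancel_right]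

/-- The centralizer of the involution. -/
def N : Subgroup X := Subgroup.centralizer {F.j}

theorem mem_N {g : X} : g ∈ F.N ↔ F.j * g = g * F.j := by
  rw [N, Subgroup.mem_centralizer_singleton_iff]
  exact eq_comm

theorem exists_lin {g : X} (hg : g ∈ F.N) :
    ∃ A : S2, ∀ w t, g * F.rho (w, t) * g⁻¹ = F.rho (act A w, t) := by
  have h3 : (3 : K3) = 0 := by decide
  have hinv : ∀ w : V, ∃ p : V, g * F.rho (w, 0) * g⁻¹ = F.rho (p, 0) := fun w => by
    obtain ⟨⟨p, t⟩, hp⟩ := F.rho_surj (D.conj_R (F.rho_mem (w, 0)) g)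
    have hgj : F.j * g = g * F.j := F.mem_N.mp hg
    have e : F.j * (g * F.rho (w, 0) * g⁻¹) * F.j⁻¹ = (g * F.rho (w, 0) * g⁻¹)⁻¹ := by
      rw [show F.j * (g * F.rho (w, 0) * g⁻¹) * F.j⁻¹ = (F.j * g) * F.rho (w, 0) * (F.j * g)⁻¹ by group, hgj,
        show (g * F.j) * F.rho (w, 0) * (g * F.j)⁻¹ = g * (F.j * F.rho (w, 0) * F.j⁻¹) * g⁻¹ by group, j_rho]
      have : F.rho (w, 0) * F.rho (-w, 0) = 1 := by
        rw [rho_mul, (om_self_neg w).1, add_neg_cancel, add_zero, add_zero]; exact F.rho_zero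
      rw [eq_inv_of_mul_eq_one_right this]
      group
    rw [← hp, j_rho] at e
    have e2 : F.rho (p, t) * F.rho (-p, t) = 1 := by rw [e, mul_inv_cancel]
    rw [rho_mul, (om_self_neg p).1, add_neg_cancel, add_zero] at e2
    have := (Prod.mk.injEq _ _ _ _).mp (F.rho_eq_one e2)
    have ht : t = 0 := by
      have h' : t + t = 0 := this.2
      linear_combination t * h3 - h'
    exact ⟨p, by rw [← hp, ht]⟩
  obtain ⟨p, hp⟩ := hinv (1, 0)
  obtain ⟨q, hq⟩ := hinv (0, 1)
  rw [rho_a] at hp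
  rw [rho_b] at hq
  have hpow : ∀ (p : V) (n : ℕ), F.rho (p, 0) ^ n = F.rho (((n : K3) * p.1, (n : K3) * p.2), 0) := fun p n => by
    induction n with
    | zero => simp [rho_zero]
    | succ n ih =>
      rw [pow_succ, ih, rho_mul]
      refine congrArg F.rho (Prod.ext (Prod.ext ?_ ?_) ?_) <;> simp [om] <;> ring
  have hpw : ∀ (p : V) (i : K3), pw (F.rho (p, 0)) i = F.rho ((i * p.1, i * p.2), 0) := fun p i => by
    rw [pw, hpow, ZMod.natCast_zmod_val]
  -- the commutator is fixed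
  have hom : om p q - om q p = 1 := by
    have e := congrArg (fun x => g * x * g⁻¹) F.hab
    beta_reduce at e
    rw [show g * (F.a * F.b) * g⁻¹ = (g * F.a * g⁻¹) * (g * F.b * g⁻¹) by group,
      show g * (F.b * F.a * F.z) * g⁻¹ = (g * F.b * g⁻¹) * (g * F.a * g⁻¹) * (g * F.z * g⁻¹) by group,
      hp, hq, F.z_comm g, mul_inv_cancel_right, rho_mul, rho_mul, ← pw_one F.z, ← rho_z, rho_mul] at e
    have := ((Prod.mk.injEq _ _ _ _).mp (F.rho_injective e)).2
    have h0 : om (q + p) (0, 0) = 0 := by simp [om]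
    rw [h0] at this
    linear_combination this
  have hdet : p.1 * q.2 - q.1 * p.2 = 1 := by
    simp only [om] at hom
    linear_combination hom + (p.1 * q.2 - q.1 * p.2) * h3
  refine ⟨⟨!![p.1, q.1; p.2, q.2], by rw [Matrix.det_fin_two_of]; exact hdet⟩, fun w t => ?_⟩
  simp only [rho, act]
  rw [show g * (pw F.a w.1 * pw F.b w.2 * pw F.z (w.1 * w.2 + t)) * g⁻¹ =
    (g * pw F.a w.1 * g⁻¹) * (g * pw F.b w.2 * g⁻¹) * (g * pw F.z (w.1 * w.2 + t) * g⁻¹) by group,
    conj_pw, conj_pw, hp, hq, F.pw_z_comm g, mul_inv_cancel_right, hpw, hpw, rho_mul]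
  simp only [rho, Prod.fst_add, Prod.snd_add]
  rw [mul_assoc, ← pw_add F.z3]
  have he : ∀ (x y : K3), x = y → pw F.z x = pw F.z y := fun x y h => by rw [h]
  simp only [Matrix.cons_val', Matrix.cons_val_zero, Matrix.cons_val_one, Matrix.of_apply, om, zero_add]
  congr 1
  · congr 1 <;> congr 1 <;> ring
  · apply he
    linear_combination -(w.1 * w.2) * hdet

end Frame

end CfsgLib.Heis43
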