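import Cfsg.Agent.Lib.Heis43.Model

set_option autoImplicit false

/-!
A group of shape `3^{1+2}.SL(2,3)` without a central involution: a central involution lift inverting the
Frattini quotient, and the coordinates of the extraspecial subgroup.
-/

namespace CfsgLib.Heis43

/-- The central involution of `SL(2,3)`. -/
def negOne : S2 := ⟨!![-1, 0; 0, -1], by decide +kernel⟩

theorem negOne_sq : negOne * negOne = 1 ∧ negOne ≠ 1 := by decide +kernel

theorem negOne_comm : ∀ A : S2, negOne * A = A * negOne := by decide +kernel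

theorem two_squares : ∀ A : S2, ∃ B C : S2, A = B * B * (C * C) := by decide +kernel

theorem card_S2 : Fintype.card S2 = 24 := by decide +kernel

/-- The hypotheses. -/
structure Data (X : Type*) [Group X] [Finite X] where
  R : Subgroup X
  hn : R.Normal
  card : Nat.card R = 27
  exp : ∀ r ∈ R, r ^ 3 = 1
  /-- the centre of `R`, inside `X` -/
  Zc : Subgroup X
  mem_Zc : ∀ x, x ∈ Zc ↔ x ∈ R ∧ ∀ r ∈ R, r * x = x * r
  card_Zc : Nat.card Zc = 3
  comm_Zc : ∀ r ∈ R, ∀ s ∈ R, r * s * r⁻¹ * s⁻¹ ∈ Zc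
  π : X →* S2
  surj : Function.Surjective π
  ker : π.ker = R
  noInv : ∀ j : X, j * j = 1 → (∀ x, x * j = j * x) → j = 1

variable {X : Type*} [Group X] [Finite X] (D : Data X)

theorem Data.mem_R {x : X} : x ∈ D.R ↔ D.π x = 1 := by rw [← D.ker, MonoidHom.mem_ker]

theorem Data.conj_R {r : X} (h : r ∈ D.R) (x : X) : x * r * x⁻¹ ∈ D.R := D.hn.conj_mem _ h x

theorem Data.exists_inv : ∃ j : X, j * j = 1 ∧ D.π j = negOne := by
  obtain ⟨x, hx⟩ := D.surj negOne
  have h2 : x * x ∈ D.R := by rw [D.mem_R, map_mul, hx, negOne_sq.1]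
  have h6 : x ^ 6 = 1 := by
    rw [show (6 : ℕ) = 2 * 3 by norm_num, pow_mul, pow_two]
    exact D.exp _ h2
  refine ⟨x ^ 3, by rw [← pow_add]; exact h6, ?_⟩
  rw [map_pow, hx, pow_succ, pow_two, negOne_sq.1, one_mul]

theorem Data.Zc_le : D.Zc ≤ D.R := fun x hx => ((D.mem_Zc x).mp hx).1

theorem Data.Zc_central {z : X} (hz : z ∈ D.Zc) (x : X) : x * z = z * x := by
  haveI : Fact (Nat.Prime 3) := ⟨Nat.prime_three⟩
  have hZn : ∀ (y : X) {w : X}, w ∈ D.Zc → y * w * y⁻¹ ∈ D.Zc := fun y w hw => by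
    rw [D.mem_Zc] at hw ⊢
    refine ⟨D.conj_R hw.1 y, fun r hr => ?_⟩
    have := congrArg (fun t => y * t * y⁻¹) (hw.2 _ (D.conj_R hr y⁻¹))
    simpa [mul_assoc] using this
  by_cases h1 : z = 1
  · simp [h1]
  have hgen : ∀ w ∈ D.Zc, ∃ k : ℕ, z ^ k = w := fun w hw => by
    have hz3 : orderOf (⟨z, hz⟩ : D.Zc) = 3 := orderOf_eq_prime
      (Subtype.ext (D.exp z (D.Zc_le hz))) (fun e => h1 (congrArg Subtype.val e))
    have htop : (⟨w, hw⟩ : D.Zc) ∈ Subgroup.zpowers (⟨z, hz⟩ : D.Zc) := by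
      rw [show Subgroup.zpowers (⟨z, hz⟩ : D.Zc) = ⊤ from
        Subgroup.eq_top_of_card_eq _ (by rw [Nat.card_zpowers, hz3, D.card_Zc])]
      trivial
    obtain ⟨k, hk⟩ := Subgroup.mem_zpowers_iff.mp htop
    refine ⟨(k % 3).toNat, ?_⟩
    have e := zpow_mod_orderOf (⟨z, hz⟩ : D.Zc) k
    rw [hz3, hk] at e
    have e' : z ^ (k % ((3 : ℕ) : ℤ)) = w := by simpa using congrArg Subtype.val e
    rw [← zpow_natCast, Int.toNat_of_nonneg (Int.emod_nonneg _ (by norm_num))]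
    exact e'
  -- squares centralize z
  have hsq : ∀ y : X, y * y * z * (y * y)⁻¹ = z := fun y => by
    obtain ⟨k, hk⟩ := hgen _ (hZn y hz)
    have h : y * y * z * (y * y)⁻¹ = z ^ (k * k) := by
      rw [pow_mul, hk, conj_pow, hk]
      group
    have h3 := D.exp z (D.Zc_le hz)
    have hk3 : k % 3 ≠ 0 := fun e => by
      have : z ^ k = 1 := by rw [← Nat.div_add_mod k 3, pow_add, pow_mul, h3, one_pow, e, pow_zero, one_mul]
      rw [this] at hk
      exact h1 (by simpa using hk.symm)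
    have : k * k % 3 = 1 := by
      have hm := Nat.mod_lt k (show 3 > 0 by norm_num)
      rw [Nat.mul_mod]
      interval_cases k % 3 <;> simp_all
    rw [h, ← Nat.div_add_mod (k * k) 3, pow_add, pow_mul, h3, one_pow, this, pow_one, one_mul]
  obtain ⟨B, C, hBC⟩ := two_squares (D.π x)
  obtain ⟨b, rfl⟩ := D.surj B
  obtain ⟨c, rfl⟩ := D.surj C
  have hr : (b * b * (c * c))⁻¹ * x ∈ D.R := by
    rw [D.mem_R, map_mul, map_inv, map_mul, map_mul, map_mul, hBC, inv_mul_cancel]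
  set r := (b * b * (c * c))⁻¹ * x with hrdef
  have hx : x = b * b * (c * c) * r := by rw [hrdef]; group
  clear_value r
  have hb := hsq b
  have hc := hsq c
  rw [mul_inv_eq_iff_eq_mul] at hb hc
  have key : (b * b * (c * c) * r) * z = z * (b * b * (c * c) * r) := by
    rw [mul_assoc _ r z, ((D.mem_Zc z).mp hz).2 r hr, ← mul_assoc, mul_assoc (b * b) (c * c) z, hc,
      ← mul_assoc, hb, mul_assoc z (b * b), mul_assoc z]
  rwa [← hx] at key

theorem Data.eq_one_of_sq {r : X} (hr : r ∈ D.R) (h : r * r = 1) : r = 1 := by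
  have := D.exp r hr
  rwa [pow_succ, pow_two, h, one_mul] at this

/-- An element of `R` fixed by the involution is central. -/
theorem Data.fixed_mem_Zc {j : X} (hj : j * j = 1) (hπ : D.π j = negOne) {r : X} (hr : r ∈ D.R)
    (hfix : j * r = r * j) : r ∈ D.Zc := by
  haveI : Fact (Nat.Prime 3) := ⟨Nat.prime_three⟩
  by_contra hrZ
  set C := D.R ⊓ Subgroup.centralizer {j} with hC
  have hmemC : ∀ {x : X}, x ∈ C ↔ x ∈ D.R ∧ j * x = x * j := fun {x} => by
    rw [hC, Subgroup.mem_inf, Subgroup.mem_centralizer_singleton_iff]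
    exact and_congr_right fun _ => eq_comm
  have hZC : D.Zc ≤ C := fun x hx => hmemC.mpr ⟨D.Zc_le hx, D.Zc_central hx j⟩
  have hjinv : j⁻¹ = j := inv_eq_of_mul_eq_one_right hj
  by_cases hall : ∀ s ∈ D.R, j * s = s * j
  · refine negOne_sq.2 ?_
    rw [← hπ, D.noInv j hj fun x => ?_, map_one]
    -- conjugates of j lie in jR, so are R-conjugate, so equal
    have hq : j⁻¹ * (x * j * x⁻¹) ∈ D.R := by
      rw [D.mem_R, map_mul, map_inv, map_mul, map_mul, map_inv, hπ, ← negOne_comm, mul_assoc negOne,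
        mul_inv_cancel, mul_one, inv_mul_cancel]
    set q := j⁻¹ * (x * j * x⁻¹) with hqdef
    have hjq : x * j * x⁻¹ = j * q := by rw [hqdef]; group
    have h1 : (j * q) * (j * q) = 1 := by
      rw [← hjq, show x * j * x⁻¹ * (x * j * x⁻¹) = x * (j * j) * x⁻¹ by group, hj]
      group
    rw [hall q hq, show q * j * (q * j) = q * (j * q) * j by group, hall q hq,
      show q * (q * j) * j = q * q * (j * j) by group, hj, mul_one] at h1
    rw [D.eq_one_of_sq hq h1, mul_one] at hjq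
    exact mul_inv_eq_iff_eq_mul.mp hjq
  push Not at hall
  obtain ⟨s, hs, hsj⟩ := hall
  set d := s⁻¹ * (j * s * j⁻¹) with hd
  have hdR : d ∈ D.R := mul_mem (inv_mem hs) (D.conj_R hs j)
  have hd1 : d ≠ 1 := fun e => hsj (by
    rw [hd, inv_mul_eq_one, eq_mul_inv_iff_mul_eq] at e
    exact e.symm)
  have hdj : j * d * j⁻¹ = d⁻¹ := by
    rw [hd, hjinv]
    simp only [mul_inv_rev, inv_inv, hjinv]
    rw [show j * (s⁻¹ * (j * s * j)) * j = j * s⁻¹ * j * s * (j * j) by group, hj, mul_one]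
    group
  have hcd : ∀ c ∈ C, d * c = c * d := fun c hc => by
    obtain ⟨hcR, hcj⟩ := hmemC.mp hc
    have hc' : c * d * c⁻¹ * d⁻¹ ∈ D.Zc := D.comm_Zc c hcR d hdR
    set w := c * d * c⁻¹ * d⁻¹ with hw
    have e1 : j * (c * d * c⁻¹) * j⁻¹ = (j * c * j⁻¹) * (j * d * j⁻¹) * (j * c * j⁻¹)⁻¹ := by group
    rw [hcj, mul_inv_cancel_right, hdj, show c * d⁻¹ * c⁻¹ = (c * d * c⁻¹)⁻¹ by group,
      show c * d * c⁻¹ = w * d by rw [hw]; group] at e1
    rw [show j * (w * d) * j⁻¹ = j * w * j⁻¹ * (j * d * j⁻¹) by group, hdj,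
      D.Zc_central hc' j, mul_inv_cancel_right] at e1
    replace e1 : d⁻¹ * w = d⁻¹ * w⁻¹ := by
      rw [D.Zc_central hc' d⁻¹, e1]
      exact mul_inv_rev w d
    -- d⁻¹ w = d⁻¹ w⁻¹
    have e2 : w = w⁻¹ := mul_left_cancel e1
    have hw1 : w = 1 := D.eq_one_of_sq (D.Zc_le hc') (by nth_rewrite 2 [e2]; rw [mul_inv_cancel])
    rw [hw, mul_inv_eq_one, mul_inv_eq_iff_eq_mul] at hw1
    exact hw1.symm
  have hCle : C ≤ D.R := inf_le_left
  have hdC : d ∉ C := fun h => hd1 (D.eq_one_of_sq hdR (by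
    have h' := (hmemC.mp h).2
    rw [h', mul_inv_cancel_right] at hdj
    nth_rewrite 2 [hdj]
    rw [mul_inv_cancel]))
  have hcard : Nat.card C = 9 := by
    obtain ⟨k, hk, hkc⟩ := (Nat.dvd_prime_pow Nat.prime_three).mp
      (show Nat.card C ∣ 3 ^ 3 by rw [show (3 : ℕ) ^ 3 = 27 by norm_num, ← D.card]; exact Subgroup.card_dvd_of_le hCle)
    have h3 : Nat.card D.Zc < Nat.card C := by
      refine lt_of_le_of_ne (Nat.le_of_dvd Nat.card_pos (Subgroup.card_dvd_of_le hZC)) fun h => hrZ ?_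
      rw [Subgroup.eq_of_le_of_card_ge hZC h.ge]
      exact hmemC.mpr ⟨hr, hfix⟩
    have h27 : Nat.card C ≠ 27 := fun h => hdC (by
      rw [Subgroup.eq_of_le_of_card_ge hCle (by rw [D.card, h])]; exact hdR)
    rw [D.card_Zc, hkc] at h3
    rw [hkc] at h27 ⊢
    interval_cases k <;> (first | omega | norm_num at h3 h27 ⊢)
  have hcomm : ∀ a ∈ C, ∀ b ∈ C, a * b = b * a := fun a ha b hb =>
    congrArg Subtype.val (IsPGroup.commutative_of_card_eq_prime_sq (p := 3) (G := C) (by rw [hcard]; norm_num)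
      (⟨a, ha⟩ : C) ⟨b, hb⟩)
  let L := D.R ⊓ Subgroup.centralizer (C : Set X)
  have hCL : C ≤ L := fun a ha => ⟨hCle ha, Subgroup.mem_centralizer_iff.mpr fun b hb => hcomm b hb a ha⟩
  have hdL : d ∈ L := ⟨hdR, Subgroup.mem_centralizer_iff.mpr fun b hb => (hcd b hb).symm⟩
  have hLR : L = D.R := by
    refine Subgroup.eq_of_le_of_card_ge inf_le_left ?_
    obtain ⟨k, hk, hkc⟩ := (Nat.dvd_prime_pow Nat.prime_three).mp
      (show Nat.card L ∣ 3 ^ 3 by rw [show (3 : ℕ) ^ 3 = 27 by norm_num, ← D.card]; exact Subgroup.card_dvd_of_le inf_le_left)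
    have h9 : Nat.card C < Nat.card L :=
      lt_of_le_of_ne (Nat.le_of_dvd Nat.card_pos (Subgroup.card_dvd_of_le hCL)) fun h => hdC (by
        rw [Subgroup.eq_of_le_of_card_ge hCL h.ge]; exact hdL)
    rw [hcard, hkc] at h9
    rw [D.card, hkc]
    interval_cases k <;> (first | omega | norm_num at h9 ⊢)
  refine hrZ ((D.mem_Zc r).mpr ⟨hr, fun t ht => ?_⟩)
  have htL : t ∈ L := hLR ▸ ht
  exact (Subgroup.mem_centralizer_iff.mp htL.2 r (hmemC.mpr ⟨hr, hfix⟩)).symm

/-- The involution inverts modulo the centre. -/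
theorem Data.inv_mod {j : X} (hj : j * j = 1) (hπ : D.π j = negOne) {r : X} (hr : r ∈ D.R) :
    r * (j * r * j⁻¹) ∈ D.Zc := by
  have hjinv : j⁻¹ = j := inv_eq_of_mul_eq_one_right hj
  set s := j * r * j⁻¹ with hs
  have hsR : s ∈ D.R := D.conj_R hr j
  have hq : r * s ∈ D.R := mul_mem hr hsR
  refine D.fixed_mem_Zc hj hπ hq ?_
  have hc : r * s * r⁻¹ * s⁻¹ ∈ D.Zc := D.comm_Zc r hr s hsR
  set w := r * s * r⁻¹ * s⁻¹ with hw
  have hrs : r * s = w * (s * r) := by rw [hw]; group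
  have hjs : j * s * j⁻¹ = r := by
    rw [hs, hjinv, show j * (j * r * j) * j = (j * j) * r * (j * j) by group, hj, one_mul, mul_one]
  have h1 : j * (r * s) * j⁻¹ = s * r := by
    rw [show j * (r * s) * j⁻¹ = (j * r * j⁻¹) * (j * s * j⁻¹) by group, hjs, ← hs]
  have h2 : j * (s * r) * j⁻¹ = r * s := by
    rw [show j * (s * r) * j⁻¹ = (j * s * j⁻¹) * (j * r * j⁻¹) by group, hjs, ← hs]
  have hw1 : w = 1 := D.eq_one_of_sq (D.Zc_le hc) (by
    rw [hrs, show j * (w * (s * r)) * j⁻¹ = (j * w * j⁻¹) * (j * (s * r) * j⁻¹) by group, D.Zc_central hc j,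
      mul_inv_cancel_right, h2, hrs, ← mul_assoc] at h1
    exact mul_eq_right.mp h1)
  rw [hw1, one_mul] at hrs
  rw [← hrs] at h1
  exact mul_inv_eq_iff_eq_mul.mp h1

end CfsgLib.Heis43
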