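import Cfsg.Agent.Lib.Heis43.Coord

set_option autoImplicit false

/-!
The extension splits once a Sylow 3-subgroup contains an elementary abelian subgroup of order 27: the group is
the coordinate group `P`.
-/

namespace CfsgLib.Heis43

open scoped Pointwise

theorem normal_exists_neg : ∀ g : S2, g ≠ 1 → ∃ h : S2, let c := g * h * g⁻¹ * h⁻¹;
    g = negOne ∨ g * g = negOne ∨ g * g * g = negOne ∨ c * c = negOne := by decide +kernel

theorem pow_eight_three : ∀ A : S2, A * A * A = 1 → ((A * A) * (A * A)) * ((A * A) * (A * A)) = 1 → A = 1 := by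
  decide +kernel

theorem pow_eight_card : (Finset.univ.filter fun A : S2 => A ^ 8 = 1).card = 8 := by decide +kernel

theorem fixed_line : ∀ w p : V, p ≠ 0 → om w p = om p w → ∃ k : K3, w = (k * p.1, k * p.2) := by decide +kernel

theorem act_smul (A : S2) (k : K3) (p : V) : act A (k * p.1, k * p.2) = (k * (act A p).1, k * (act A p).2) := by
  simp [act]; constructor <;> ring

variable {X : Type*} [Group X] [Finite X] {D : Data X} (F : Frame D)

namespace Frame

theorem exists_decomp (x : X) : ∃ r ∈ D.R, ∃ n ∈ F.N, x = r * n := by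
  have hjinv : F.j⁻¹ = F.j := inv_eq_of_mul_eq_one_right F.hj
  have hr : F.j⁻¹ * (x * F.j * x⁻¹) ∈ D.R := by
    rw [D.mem_R, map_mul, map_inv, map_mul, map_mul, map_inv, F.hπ, ← negOne_comm, mul_assoc negOne,
      mul_inv_cancel, mul_one, inv_mul_cancel]
  set r := F.j⁻¹ * (x * F.j * x⁻¹) with hrdef
  have hx : x * F.j * x⁻¹ = F.j * r := by rw [hrdef]; group
  clear_value r
  have hjr : F.j * r * (F.j * r) = 1 := by
    rw [← hx, show x * F.j * x⁻¹ * (x * F.j * x⁻¹) = x * (F.j * F.j) * x⁻¹ by group, F.hj]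
    group
  refine ⟨r, hr, r⁻¹ * x, ?_, by group⟩
  rw [F.mem_N]
  have h1 : r * F.j * r⁻¹ = F.j * r := by
    have e : r * F.j = F.j * r⁻¹ := by
      have e' : F.j * r * F.j = r⁻¹ := eq_inv_of_mul_eq_one_left (by rw [mul_assoc]; exact hjr)
      calc r * F.j = F.j * (F.j * r * F.j) := by simp only [← mul_assoc, F.hj, one_mul]
        _ = F.j * r⁻¹ := by rw [e']
    rw [e, mul_assoc, ← mul_inv_rev, inv_eq_of_mul_eq_one_right]
    have := D.exp r hr
    rwa [pow_succ, pow_two] at this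
  rw [← h1] at hx
  calc F.j * (r⁻¹ * x) = r⁻¹ * (r * F.j * r⁻¹) * x := by group
    _ = r⁻¹ * (x * F.j * x⁻¹) * x := by rw [hx]
    _ = r⁻¹ * x * F.j := by group

theorem N_inf {r : X} (hr : r ∈ D.R) (hn : r ∈ F.N) : r ∈ D.Zc :=
  D.fixed_mem_Zc F.hj F.hπ hr (F.mem_N.mp hn)

theorem Zc_le_N : D.Zc ≤ F.N := fun _ hx => F.mem_N.mpr (D.Zc_central hx _)

theorem card_N : Nat.card F.N = 72 := by
  let f : F.N →* S2 := D.π.comp F.N.subtype
  have hsurj : Function.Surjective f := fun A => by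
    obtain ⟨x, hx⟩ := D.surj A
    obtain ⟨r, hr, n, hn, rfl⟩ := F.exists_decomp x
    exact ⟨⟨n, hn⟩, by rw [← hx, map_mul, D.mem_R.mp hr, one_mul]; rfl⟩
  have hk : f.ker = D.Zc.subgroupOf F.N := by
    ext n
    rw [MonoidHom.mem_ker, Subgroup.mem_subgroupOf, MonoidHom.comp_apply, ← D.mem_R]
    exact ⟨fun h => F.N_inf h n.2, fun h => D.Zc_le h⟩
  have h := f.ker.card_mul_index
  rw [Subgroup.index_ker, MonoidHom.range_eq_top.mpr hsurj, Subgroup.card_top, Nat.card_eq_fintype_card (α := S2),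
    card_S2, hk, Nat.card_congr (Subgroup.subgroupOfEquivOfLe F.Zc_le_N).toEquiv, D.card_Zc] at h
  exact h.symm

/-- The linear action of the centralizer of the involution. -/
noncomputable def theta : F.N →* S2 :=
  MonoidHom.mk' (fun g => (F.exists_lin g.2).choose) fun g h => by
    have hg := (F.exists_lin g.2).choose_spec
    have hh := (F.exists_lin h.2).choose_spec
    have hgh := (F.exists_lin (g * h).2).choose_spec
    have key : ∀ w, act (F.exists_lin (g * h).2).choose w =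
        act ((F.exists_lin g.2).choose * (F.exists_lin h.2).choose) w := fun w => by
      rw [← act_act]
      have e : F.rho (act (F.exists_lin (g * h).2).choose w, 0) =
          F.rho (act (F.exists_lin g.2).choose (act (F.exists_lin h.2).choose w), 0) := by
        rw [← hgh w 0, ← hg _ 0, ← hh w 0, Subgroup.coe_mul]
        group
      exact congrArg Prod.fst (F.rho_injective e)
    have e1 := key (1, 0)
    have e2 := key (0, 1)
    rw [(act_e _).1, (act_e _).1, Prod.mk.injEq] at e1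
    rw [(act_e _).2, (act_e _).2, Prod.mk.injEq] at e2
    apply Subtype.ext
    ext i k
    fin_cases i <;> fin_cases k
    exacts [e1.1, e2.1, e1.2, e2.2]

theorem theta_spec (g : F.N) (w : V) (t : K3) :
    (g : X) * F.rho (w, t) * (g : X)⁻¹ = F.rho (act (F.theta g) w, t) :=
  (F.exists_lin g.2).choose_spec w t

theorem theta_ker {g : F.N} : F.theta g = 1 ↔ (g : X) ∈ D.Zc := by
  constructor
  · intro h
    have hc : ∀ r ∈ D.R, (g : X) * r = r * (g : X) := fun r hr => by
      obtain ⟨⟨w, t⟩, rfl⟩ := F.rho_surj hr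
      exact mul_inv_eq_iff_eq_mul.mp (by rw [F.theta_spec, h, act_one])
    by_cases hπg : D.π g = 1
    · exact F.N_inf (D.mem_R.mpr hπg) g.2
    exfalso
    obtain ⟨A, hA⟩ := normal_exists_neg _ hπg
    obtain ⟨x, rfl⟩ := D.surj A
    obtain ⟨r, hr, n, hn, rfl⟩ := F.exists_decomp x
    rw [map_mul, D.mem_R.mp hr, one_mul] at hA
    -- the centralizer of R in N, normalized by N, reaches the involution
    let K : Subgroup X := F.N ⊓ Subgroup.centralizer (D.R : Set X)
    have hgK : (g : X) ∈ K := ⟨g.2, Subgroup.mem_centralizer_iff.mpr fun r hr => (hc r hr).symm⟩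
    have hconj : n * (g : X) * n⁻¹ ∈ K := by
      refine ⟨mul_mem (mul_mem hn g.2) (F.N.inv_mem hn), Subgroup.mem_centralizer_iff.mpr fun r hr => ?_⟩
      have h := congrArg (fun u => n * u * n⁻¹) (hc _ (D.conj_R hr n⁻¹))
      simpa [mul_assoc] using h.symm
    have hfin : ∀ k ∈ K, D.π k = negOne → False := fun k hk e => by
      have hr : F.j⁻¹ * k ∈ D.R := by rw [D.mem_R, map_mul, map_inv, e, F.hπ, inv_mul_cancel]
      have hrN : F.j⁻¹ * k ∈ F.N := mul_mem (inv_mem (F.mem_N.mpr rfl)) hk.1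
      have hz := F.N_inf hr hrN
      have hja : F.j * F.a = F.a * F.j := by
        have e : F.j = k * (F.j⁻¹ * k)⁻¹ := by group
        rw [e, mul_assoc, ← D.Zc_central (inv_mem hz) F.a, ← mul_assoc,
          (Subgroup.mem_centralizer_iff.mp hk.2 _ F.ha).symm, mul_assoc]
      have h2 := F.hja
      rw [hja, mul_inv_cancel_right] at h2
      have h1 : F.a = 1 := D.eq_one_of_sq F.ha (by nth_rewrite 2 [h2]; rw [mul_inv_cancel])
      exact F.hne (by rw [h1, one_mul, mul_one])
    rcases hA with h1 | h1 | h1 | h1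
    · exact hfin _ hgK h1
    · exact hfin _ (mul_mem hgK hgK) (by rw [map_mul, h1])
    · exact hfin _ (mul_mem (mul_mem hgK hgK) hgK) (by rw [map_mul, map_mul, h1])
    · have hc' : (g : X) * n * (g : X)⁻¹ * n⁻¹ ∈ K := by
        rw [show (g : X) * n * (g : X)⁻¹ * n⁻¹ = (g : X) * (n * (g : X) * n⁻¹)⁻¹ by group]
        exact mul_mem hgK (inv_mem hconj)
      exact hfin _ (mul_mem hc' hc') (by rw [← h1]; simp only [map_mul, map_inv])
  · intro hz
    have key : ∀ w, act (F.theta g) w = w := fun w => by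
      have e : F.rho (act (F.theta g) w, 0) = F.rho (w, 0) := by
        rw [← F.theta_spec g w 0, ← D.Zc_central hz, mul_inv_cancel_right]
      exact congrArg Prod.fst (F.rho_injective e)
    have e1 := key (1, 0)
    have e2 := key (0, 1)
    rw [(act_e _).1, Prod.mk.injEq] at e1
    rw [(act_e _).2, Prod.mk.injEq] at e2
    apply Subtype.ext
    ext i k
    fin_cases i <;> fin_cases k
    exacts [e1.1, e2.1, e1.2, e2.2]

/-- An element of order three of the centralizer of the involution acting nontrivially. -/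
theorem exists_y (hE : ∃ E : Subgroup X, IsMulCommutative E ∧ (∀ a ∈ E, a ^ 3 = 1) ∧ Nat.card E = 27) :
    ∃ y : F.N, y ^ 3 = 1 ∧ F.theta y ≠ 1 := by
  obtain ⟨E, hEc, hE3, hE27⟩ := hE
  have hcomm : ∀ u ∈ E, ∀ v ∈ E, u * v = v * u := fun u hu v hv =>
    congrArg Subtype.val (hEc.is_comm.comm (⟨u, hu⟩ : E) ⟨v, hv⟩)
  obtain ⟨x, hxE, hxR⟩ : ∃ x ∈ E, x ∉ D.R := by
    by_contra h
    push Not at h
    have hEq : E = D.R := Subgroup.eq_of_le_of_card_ge h (by rw [hE27, D.card])
    exact F.hne (hcomm _ (hEq ▸ F.ha) _ (hEq ▸ F.hb))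
  let f : E →* S2 := D.π.comp E.subtype
  have hker : 9 ≤ Nat.card f.ker := by
    have h := f.ker.card_mul_index
    rw [Subgroup.index_ker, hE27] at h
    have h2 : Nat.card f.range ∣ 24 := card_S2 ▸ Nat.card_eq_fintype_card (α := S2) ▸ Subgroup.card_subgroup_dvd_card f.range
    have h3 : Nat.card f.range ∣ 3 := by
      have := Nat.dvd_gcd h2 (Dvd.intro_left _ h)
      simpa using this
    have := Nat.le_of_dvd (by norm_num) h3
    nlinarith
  obtain ⟨u, hu, huZ⟩ : ∃ u : E, u ∈ f.ker ∧ (u : X) ∉ D.Zc := by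
    by_contra h
    push Not at h
    let g : f.ker → D.Zc := fun u => ⟨(u.1 : X), h u.1 u.2⟩
    have := Nat.card_le_card_of_injective g fun a b e =>
      Subtype.ext (Subtype.ext (congrArg (fun v : D.Zc => (v : X)) e))
    rw [D.card_Zc] at this
    omega
  have huR : (u : X) ∈ D.R := D.mem_R.mpr hu
  obtain ⟨⟨p, t⟩, hp⟩ := F.rho_surj huR
  have hp0 : p ≠ 0 := fun e => huZ (by
    rw [← hp, e, show ((0 : V), t) = ((0, 0), t) from rfl, F.rho_z]; exact pow_mem F.z_mem _)
  obtain ⟨r, hr, y, hy, hxy⟩ := F.exists_decomp x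
  obtain ⟨⟨w, s⟩, rfl⟩ := F.rho_surj hr
  have hyθ : F.theta ⟨y, hy⟩ ≠ 1 := fun e => hxR (by
    rw [hxy]; exact mul_mem hr (D.Zc_le (F.theta_ker.mp e)))
  set A := F.theta ⟨y, hy⟩ with hA
  have hyspec : ∀ (v : V) (c : K3), y * F.rho (v, c) = F.rho (act A v, c) * y := fun v c =>
    mul_inv_eq_iff_eq_mul.mp (F.theta_spec ⟨y, hy⟩ v c)
  have hfix := hcomm x hxE u u.2
  rw [hxy, ← hp, mul_assoc, hyspec, ← mul_assoc, ← mul_assoc, mul_left_inj, F.rho_mul, F.rho_mul] at hfix
  obtain ⟨e1, e2⟩ := (Prod.mk.injEq _ _ _ _).mp (F.rho_injective hfix)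
  have hAp : act A p = p := by rwa [add_comm p w, add_right_inj] at e1
  rw [hAp] at e2
  obtain ⟨k, hk⟩ := fixed_line w p hp0 (by linear_combination e2)
  have hAw : act A w = w := by rw [hk, act_smul, hAp]
  refine ⟨⟨y, hy⟩, Subtype.ext ?_, hyθ⟩
  show y ^ 3 = 1
  have hcy : Commute (F.rho (w, s)) y := by rw [Commute, SemiconjBy, hyspec, hAw]
  have := hE3 x hxE
  rw [hxy, hcy.mul_pow, D.exp _ hr, one_mul] at this
  exact this

/-- A section of the linear action. -/
theorem exists_section (hE : ∃ E : Subgroup X, IsMulCommutative E ∧ (∀ a ∈ E, a ^ 3 = 1) ∧ Nat.card E = 27) :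
    ∃ σ : S2 →* F.N, ∀ A, F.theta (σ A) = A := by
  haveI : Fact (Nat.Prime 2) := ⟨Nat.prime_two⟩
  obtain ⟨y, hy3, hy⟩ := F.exists_y hE
  obtain ⟨Q⟩ := (inferInstance : Nonempty (Sylow 2 F.N))
  have hQc : Nat.card Q = 8 := by
    rw [Sylow.card_eq_multiplicity, F.card_N, show (72 : ℕ) = 2 ^ 3 * 9 by norm_num,
      Nat.factorization_mul (by norm_num) (by norm_num), Finsupp.add_apply,
      Nat.Prime.factorization_pow (by norm_num), Nat.factorization_eq_zero_of_not_dvd (by norm_num : ¬ 2 ∣ 9)]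
    simp
  have hQ8 : ∀ q ∈ (Q : Subgroup F.N), q ^ 8 = 1 := fun q hq => by
    have := Subgroup.orderOf_dvd_natCard _ hq
    rw [hQc] at this
    exact orderOf_dvd_iff_pow_eq_one.mp this
  have hz8 : ∀ n : F.N, (n : X) ∈ D.Zc → n ^ 8 = 1 → n = 1 := fun n hn h => by
    have h3 := D.exp _ (D.Zc_le hn)
    have h' : (n : X) ^ 8 = 1 := by rw [← Subgroup.coe_pow, h]; rfl
    apply Subtype.ext
    rw [show (8 : ℕ) = 3 * 3 - 1 from rfl] at h'
    have : (n : X) ^ 9 = 1 := by rw [show (9 : ℕ) = 3 * 3 from rfl, pow_mul, h3, one_pow]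
    rwa [pow_succ, show (8 : ℕ) = 3 * 3 - 1 from rfl, h', one_mul] at this
  have hinj : ∀ q ∈ (Q : Subgroup F.N), F.theta q = 1 → q = 1 := fun q hq h =>
    hz8 q (F.theta_ker.mp h) (hQ8 q hq)
  let fQ : ↥(Q : Subgroup F.N) → {A : S2 // A ^ 8 = 1} := fun q =>
    ⟨F.theta q.1, by rw [← map_pow, hQ8 _ q.2, map_one]⟩
  have hfQ : Function.Bijective fQ := by
    refine (Nat.bijective_iff_injective_and_card fQ).mpr ⟨fun a b h => ?_, ?_⟩
    · have h' : F.theta a.1 = F.theta b.1 := congrArg Subtype.val h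
      exact Subtype.ext (inv_mul_eq_one.mp (hinj _ (mul_mem (inv_mem a.2) b.2)
        (by rw [map_mul, map_inv, h', inv_mul_cancel])))
    · rw [hQc, Nat.card_eq_fintype_card, Fintype.card_subtype, pow_eight_card]
  haveI hQn : (Q : Subgroup F.N).Normal := ⟨fun q hq n => by
    obtain ⟨⟨q', hq'⟩, hqq⟩ := hfQ.2 ⟨F.theta (n * q * n⁻¹), by rw [← map_pow, conj_pow, hQ8 q hq]; simp⟩
    have hqq' : F.theta q' = F.theta (n * q * n⁻¹) := congrArg Subtype.val hqq
    set m := n * q * n⁻¹ with hm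
    have hmz : ((q'⁻¹ * m : F.N) : X) ∈ D.Zc := F.theta_ker.mp (by rw [map_mul, map_inv, hqq', inv_mul_cancel])
    have hc : Commute q' (q'⁻¹ * m) := Subtype.ext (D.Zc_central hmz _)
    have : (q'⁻¹ * m) ^ 8 = 1 := by
      have h := hc.mul_pow 8
      rw [mul_inv_cancel_left, hQ8 q' hq', one_mul] at h
      rw [← h, hm, conj_pow, hQ8 q hq]
      group
    rw [← inv_mul_eq_one.mp (hz8 _ hmz this)]
    exact hq'⟩
  set S := (Q : Subgroup F.N) ⊔ Subgroup.zpowers y with hS
  have hθy3 : F.theta y ^ 3 = 1 := by rw [← map_pow, hy3, map_one]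
  have hSinj : ∀ s ∈ S, F.theta s = 1 → s = 1 := fun s hs h => by
    have hs' : s ∈ ((Q : Subgroup F.N) : Set F.N) * ((Subgroup.zpowers y : Subgroup F.N) : Set F.N) := by
      rw [← Subgroup.normal_mul]; exact hs
    obtain ⟨q, hq, u, hu, rfl⟩ := hs'
    obtain ⟨k, rfl⟩ := Subgroup.mem_zpowers_iff.mp hu
    beta_reduce at h ⊢
    rw [map_mul, map_zpow] at h
    have h8 : F.theta q ^ 8 = 1 := by rw [← map_pow, hQ8 q hq, map_one]
    have h3 : F.theta q ^ 3 = 1 := by
      rw [eq_inv_of_mul_eq_one_left h, inv_pow, ← zpow_natCast, ← zpow_mul, mul_comm, zpow_mul, zpow_natCast, hθy3,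
        one_zpow, inv_one]
    have hq1 : F.theta q = 1 := by
      have h' : F.theta q ^ 9 = 1 := by rw [show (9 : ℕ) = 3 * 3 from rfl, pow_mul, h3, one_pow]
      rwa [pow_succ, h8, one_mul] at h'
    rw [hq1, one_mul] at h
    rw [hinj q hq hq1, one_mul]
    have ho : orderOf (F.theta y) = 3 := by
      haveI : Fact (Nat.Prime 3) := ⟨Nat.prime_three⟩
      exact orderOf_eq_prime hθy3 hy
    have hk := orderOf_dvd_iff_zpow_eq_one.mpr h
    rw [ho] at hk
    obtain ⟨c, rfl⟩ := hk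
    rw [zpow_mul, zpow_natCast, hy3, one_zpow]
  let φ : S →* S2 := F.theta.comp S.subtype
  have hφ : Function.Bijective φ := by
    have hi : Function.Injective φ := (injective_iff_map_eq_one φ).mpr fun s h => Subtype.ext (hSinj _ s.2 h)
    refine ⟨hi, MonoidHom.range_eq_top.mp (Subgroup.eq_top_of_card_eq _ ?_)⟩
    rw [← Nat.card_congr (MonoidHom.ofInjective hi).toEquiv, Nat.card_eq_fintype_card (α := S2), card_S2]
    have h8 : 8 ∣ Nat.card S := hQc ▸ Subgroup.card_dvd_of_le le_sup_left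
    have h3 : 3 ∣ Nat.card S := by
      haveI : Fact (Nat.Prime 3) := ⟨Nat.prime_three⟩
      have ho : orderOf y = 3 := orderOf_eq_prime hy3 (fun e => hy (by rw [e, map_one]))
      exact ho ▸ Subgroup.orderOf_dvd_natCard S (Subgroup.mem_sup_right (Subgroup.mem_zpowers y))
    have hle : Nat.card S ≤ 24 := by
      have := Nat.card_le_card_of_injective φ hi
      rwa [Nat.card_eq_fintype_card (α := S2), card_S2] at this
    have hpos : 0 < Nat.card S := Nat.card_pos
    omega
  let e := MulEquiv.ofBijective φ hφ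
  exact ⟨S.subtype.comp e.symm.toMonoidHom, fun A => e.apply_symm_apply A⟩

include F in
/-- The group in coordinates. -/
theorem exists_coord (hE : ∃ E : Subgroup X, IsMulCommutative E ∧ (∀ a ∈ E, a ^ 3 = 1) ∧ Nat.card E = 27) :
    ∃ Ξ : P → X, Function.Bijective Ξ ∧ (∀ p q, Ξ (pmul p q) = Ξ p * Ξ q) ∧ Ξ tauP ∈ D.Zc := by
  obtain ⟨σ, hσ⟩ := F.exists_section hE
  let Ξ : P → X := fun p => F.rho p.1 * (σ p.2 : X)
  have hmul : ∀ p q, Ξ (pmul p q) = Ξ p * Ξ q := by
    rintro ⟨⟨w, t⟩, A⟩ ⟨⟨w', t'⟩, B⟩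
    simp only [Ξ, pmul, map_mul, Subgroup.coe_mul]
    have h := F.theta_spec (σ A) w' t'
    rw [hσ] at h
    rw [← F.rho_mul, ← h]
    group
  have hinj : Function.Injective Ξ := by
    rintro ⟨p, A⟩ ⟨q, B⟩ h
    simp only [Ξ] at h
    have hr : ((σ (A * B⁻¹) : F.N) : X) ∈ D.R := by
      rw [map_mul, map_inv, Subgroup.coe_mul, Subgroup.coe_inv, show (σ A : X) = (F.rho p)⁻¹ * (F.rho q * σ B) by
        rw [← h]; group]
      rw [mul_assoc, mul_assoc, mul_inv_cancel, mul_one]
      exact mul_mem (inv_mem (F.rho_mem p)) (F.rho_mem q)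
    have hz := F.theta_ker.mpr (F.N_inf hr (σ _).2)
    rw [hσ, mul_inv_eq_one] at hz
    subst hz
    rw [F.rho_injective (mul_right_cancel h)]
  have hcard : Nat.card P = Nat.card X := by
    have h := D.π.ker.card_mul_index
    rw [Subgroup.index_ker, MonoidHom.range_eq_top.mpr D.surj, Subgroup.card_top, D.ker, D.card,
      Nat.card_eq_fintype_card (α := S2), card_S2] at h
    rw [Nat.card_prod, Nat.card_eq_fintype_card (α := S2), card_S2, Nat.card_eq_fintype_card, ← h]
    rfl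
  refine ⟨Ξ, (Nat.bijective_iff_injective_and_card Ξ).mpr ⟨hinj, hcard⟩, hmul, ?_⟩
  simp only [Ξ, tauP, map_one, Subgroup.coe_one, mul_one, F.rho_z]
  exact pow_mem F.z_mem _

end Frame

end CfsgLib.Heis43
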